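import Groth.Agent.Lib.TFOne.Euler
import Groth.Agent.Lib.Modules.Free
import Groth.Agent.Lib.CohDelta.BC.Transpose
import Groth.Agent.Lib.Cyc.Dev.SchemeEquiv
import Groth.Agent.Lib.ZarCoh.Linear
import Groth.Agent.Lib.QCoh.Pushforward
import Groth.Agent.Lib.Snapper.Twist
import Groth.Agent.Lib.ParBun.Proper
import Groth.Agent.Lib.Curves.GlobalSections

/-!
# Euler characteristics of direct images and of clopen decompositions
-/

set_option autoImplicit false
set_option linter.style.haveILetI false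
universe u

open CategoryTheory CategoryTheory.Limits AlgebraicGeometry TopologicalSpace Opposite

namespace Groth.Agent.Lib.EtaleChi90.Split

open Groth.Agent.Lib

variable {k : Type u} [Field k] {X P : Scheme.{u}}

theorem euler_congr [X.Over (Spec (CommRingCat.of k))] {A B : X.Modules} (e : A ≅ B) :
    Curv2.euler k X A = Curv2.euler k X B :=
  finsum_congr fun i => by rw [(Curves.LES.isoK k e i).finrank_eq]

theorem euler_push [X.Over (Spec (CommRingCat.of k))] [P.Over (Spec (CommRingCat.of k))]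
    (f : P ⟶ X) [IsAffineHom f]
    (hf : f ≫ (X ↘ Spec (CommRingCat.of k)) = P ↘ Spec (CommRingCat.of k))
    (M : P.Modules) [M.IsQuasicoherent] :
    Curv2.euler k X ((Coh.push f).obj M) = Curv2.euler k P M :=
  finsum_congr fun i => by rw [(ZarCoh.Linear.affineLinearEquiv f hf M i).finrank_eq]

variable {U V : Scheme.{u}} (a : U ⟶ P) (b : V ⟶ P)

/-- `O → f_* O`. -/
noncomputable def res (f : U ⟶ P) :
    Coh.structureModule P ⟶ (Coh.push f).obj (Coh.structureModule U) :=
  Modules.Free.unitHom _ ((1 : Γ(U, f ⁻¹ᵁ ⊤)) : Γ((Coh.push f).obj (Coh.structureModule U), ⊤))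

theorem res_app (f : U ⟶ P) (W : P.Opens) (r : Γ(P, W)) : (res f).app W r = (f.app W).hom r := by
  refine (Modules.Free.unitHom_app _ _ W r).trans ?_
  show (f.app W).hom r * _ = _
  have h1 : (U.presheaf.map ((Opens.map f.base).map (homOfLE (le_top (a := W)))).op).hom
      (1 : Γ(U, f ⁻¹ᵁ ⊤)) = (1 : Γ(U, f ⁻¹ᵁ W)) := map_one _
  exact (congrArg (fun z : Γ(U, f ⁻¹ᵁ W) => (f.app W).hom r * z) h1).trans (mul_one _)

theorem bijective_res [IsOpenImmersion a] {W : P.Opens} (hW : W ≤ a.opensRange) :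
    Function.Bijective ((res a).app W) := by
  have : IsIso (a.app W) := a.isIso_app W hW
  have h := ConcreteCategory.bijective_of_isIso (a.app W)
  have e : ((res a).app W : Γ(P, W) → _) = (a.app W).hom := funext fun r => res_app a W r
  exact ⟨fun x y hxy => h.1 (((congrFun e x).symm.trans hxy).trans (congrFun e y)),
    fun z => (h.2 z).imp fun x hx => (congrFun e x).trans hx⟩

theorem subsingleton_push (f : U ⟶ P) {W : P.Opens} (hW : f ⁻¹ᵁ W = ⊥) :
    Subsingleton Γ((Coh.push f).obj (Coh.structureModule U), W) := by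
  show Subsingleton Γ(U, f ⁻¹ᵁ W)
  rw [hW]
  infer_instance

/-- The structure sheaf of a disjoint union of two open pieces. -/
theorem isIso_lift [IsOpenImmersion a] [IsOpenImmersion b]
    (hdis : Disjoint (a.opensRange) (b.opensRange)) (hcov : a.opensRange ⊔ b.opensRange = ⊤) :
    IsIso (biprod.lift (res a) (res b)) := by
  refine CohDelta.BC.Transpose.isIso_of_bijective_basis _
    (B := {W : P.Opens | W ≤ a.opensRange ∨ W ≤ b.opensRange}) ?_ fun W hW => ?_
  · refine Opens.isBasis_iff_nbhd.2 fun {O x} hx => ?_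
    have hx' : x ∈ a.opensRange ⊔ b.opensRange := by rw [hcov]; trivial
    rcases Opens.mem_sup.1 hx' with h | h
    · exact ⟨O ⊓ a.opensRange, Or.inl inf_le_right, ⟨hx, h⟩, inf_le_left⟩
    · exact ⟨O ⊓ b.opensRange, Or.inr inf_le_right, ⟨hx, h⟩, inf_le_left⟩
  set A := (Coh.push a).obj (Coh.structureModule U)
  set B := (Coh.push b).obj (Coh.structureModule V)
  set φ := biprod.lift (res a) (res b)
  have h1 : ∀ r, (biprod.fst : A ⊞ B ⟶ A).app W (φ.app W r) = (res a).app W r := fun r => by
    rw [← CategoryTheory.comp_apply, ← Scheme.Modules.Hom.comp_app, biprod.lift_fst]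
  have h2 : ∀ r, (biprod.snd : A ⊞ B ⟶ B).app W (φ.app W r) = (res b).app W r := fun r => by
    rw [← CategoryTheory.comp_apply, ← Scheme.Modules.Hom.comp_app, biprod.lift_snd]
  have htot : ∀ z : Γ(A ⊞ B, W), (biprod.inl : A ⟶ A ⊞ B).app W ((biprod.fst : A ⊞ B ⟶ A).app W z) +
      (biprod.inr : B ⟶ A ⊞ B).app W ((biprod.snd : A ⊞ B ⟶ B).app W z) = z := fun z => by
    conv_rhs => rw [show z = (𝟙 (A ⊞ B) : A ⊞ B ⟶ A ⊞ B).app W z from rfl, ← biprod.total]
    rfl
  have hext : ∀ z z' : Γ(A ⊞ B, W), (biprod.fst : A ⊞ B ⟶ A).app W z = (biprod.fst : A ⊞ B ⟶ A).app W z' →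
      (biprod.snd : A ⊞ B ⟶ B).app W z = (biprod.snd : A ⊞ B ⟶ B).app W z' → z = z' := fun z z' e e' => by
    rw [← htot z, ← htot z', e, e']
  rcases hW with hW | hW
  · haveI : Subsingleton Γ(B, W) := subsingleton_push b (by
      ext x
      simp only [Opens.coe_bot, Set.mem_empty_iff_false, iff_false]
      intro hx
      exact hdis.le_bot (show b x ∈ a.opensRange ⊓ b.opensRange from ⟨hW hx, ⟨x, rfl⟩⟩))
    obtain ⟨hi, hs⟩ := bijective_res a hW
    refine ⟨fun x y hxy => hi ((h1 x).symm.trans ((congrArg _ hxy).trans (h1 y))), fun z => ?_⟩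
    obtain ⟨r, hr⟩ := hs ((biprod.fst : A ⊞ B ⟶ A).app W z)
    exact ⟨r, hext _ _ ((h1 r).trans hr) (Subsingleton.elim _ _)⟩
  · haveI : Subsingleton Γ(A, W) := subsingleton_push a (by
      ext x
      simp only [Opens.coe_bot, Set.mem_empty_iff_false, iff_false]
      intro hx
      exact hdis.le_bot (show a x ∈ a.opensRange ⊓ b.opensRange from ⟨⟨x, rfl⟩, hW hx⟩))
    obtain ⟨hi, hs⟩ := bijective_res b hW
    refine ⟨fun x y hxy => hi ((h2 x).symm.trans ((congrArg _ hxy).trans (h2 y))), fun z => ?_⟩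
    obtain ⟨r, hr⟩ := hs ((biprod.snd : A ⊞ B ⟶ B).app W z)
    exact ⟨r, hext _ _ (Subsingleton.elim _ _) ((h2 r).trans hr)⟩

/-- `χ(O)` adds over a clopen decomposition. -/
theorem euler_clopen [P.Over (Spec (CommRingCat.of k))] [IsProper (P ↘ Spec (CommRingCat.of k))]
    [U.Over (Spec (CommRingCat.of k))] [V.Over (Spec (CommRingCat.of k))]
    [IsOpenImmersion a] [IsOpenImmersion b] [IsClosedImmersion a] [IsClosedImmersion b]
    (ha : a ≫ (P ↘ Spec (CommRingCat.of k)) = U ↘ Spec (CommRingCat.of k))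
    (hb : b ≫ (P ↘ Spec (CommRingCat.of k)) = V ↘ Spec (CommRingCat.of k))
    (hdis : Disjoint (a.opensRange) (b.opensRange)) (hcov : a.opensRange ⊔ b.opensRange = ⊤) :
    Curv2.euler k P (Coh.structureModule P) =
      Curv2.euler k U (Coh.structureModule U) + Curv2.euler k V (Coh.structureModule V) := by
  haveI := Curves.GlobalSections.isNoetherian_of_proper k P
  haveI : IsLocallyNoetherian U := LocallyOfFiniteType.isLocallyNoetherian a
  haveI : IsLocallyNoetherian V := LocallyOfFiniteType.isLocallyNoetherian b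
  haveI := isIso_lift a b hdis hcov
  have hA := Cyc.Dev.SchemeEquiv.isCoh_push a (Snapper.Twist.isCoh_structureModule U)
  have hB := Cyc.Dev.SchemeEquiv.isCoh_push b (Snapper.Twist.isCoh_structureModule V)
  haveI : (Coh.structureModule U).IsQuasicoherent := (Snapper.Twist.isCoh_structureModule U).1
  haveI : (Coh.structureModule V).IsQuasicoherent := (Snapper.Twist.isCoh_structureModule V).1
  rw [euler_congr (k := k) (asIso (biprod.lift (res a) (res b))), TFOne.Euler.euler_biprod hA hB,
    euler_push a ha, euler_push b hb]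

end Groth.Agent.Lib.EtaleChi90.Split
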