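import Groth.Agent.Lib.EtaleChi90.Points
import Groth.Agent.Lib.EtaleChi90.Split
import Groth.Agent.H81.PushLocFree
import Groth.Agent.H34.BC0Vanish
import Groth.Agent.H54.BCX.Main
import Groth.Agent.Lib.TFOne.EDeg
import Groth.Agent.Lib.IntTheory.Additive
import Groth.Agent.Lib.CohDelta.DevApps
import Groth.Agent.Lib.Exchange.NearFibre
import Groth.Agent.Lib.Snapper.DimBound
import Groth.Agent.Lib.Flat55.DimSums
import Groth.Agent.Lib.IntTheory.Positive
import Groth.Agent.Lib.IntTheory.Curves
import Groth.Agent.Lib.PosLin.CohBound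
import Groth.Agent.Lib.Modules.SupportOps

/-!
# `χ(O_{X'}) = d χ(O_X)` for finite étale covers of degree `d`
-/

set_option autoImplicit false
set_option linter.style.haveILetI false
set_option linter.unusedSectionVars false
universe u

open CategoryTheory CategoryTheory.Limits AlgebraicGeometry TopologicalSpace

namespace Groth.Agent.Lib.EtaleChi90.Main

open Groth.Agent Groth.Agent.Lib
open Groth.Agent.Lib.EtaleChi90.Points (FibreCard)
open Groth.Agent.Lib.EtaleChi90.Split (euler_congr euler_push)
open Groth.Agent.Lib.IntTheory.Additive (IsAdd VanishBelow topPts)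
open Groth.Agent.Lib.TensorMod.Basic (comm assoc tensorIso leftUnit rightUnit)

/-- `φ_* O`. -/
noncomputable abbrev E {X' X : Scheme.{u}} (φ : X' ⟶ X) : X.Modules :=
  (Coh.push φ).obj (Coh.structureModule X')

section Geometry

variable {X' X : Scheme.{u}} (φ : X' ⟶ X) [IsFinite φ] [Etale φ]

theorem isFinLocFree_E : FlatMod.IsFinLocFree (E φ) := H81.PushLocFree.isFinLocFree_push φ

/-- Base change of `φ_* O`. -/
theorem nonempty_bc [IsLocallyNoetherian X'] {P T : Scheme.{u}} {fst : P ⟶ X'} {snd : P ⟶ T}
    {g : T ⟶ X} (h : IsPullback fst snd φ g) :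
    Nonempty ((Scheme.Modules.pullback g).obj (E φ) ≅ E snd) := by
  haveI : (Coh.structureModule X').IsQuasicoherent := (Snapper.Twist.isCoh_structureModule X').1
  haveI := H34.BC0Vanish.isIso_bc0 (f := φ) (F := Coh.structureModule X')
    (ZarCoh.FP.isFP_of_isCoh _ (Snapper.Twist.isCoh_structureModule X'))
    (_root_.ZarCoh.Exchange.NearFibre.isFlatOver_of_isFinLocFree _
      (TensorMod.LocFree.of_rank (TensorMod.LocFree.of_isInvertible (PicLoc.isInvertible_structureModule X'))))
    h fun z => H54.BCX.Main.subsingleton_fiberH (g z) (d := 0) ?_ one_pos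
  · exact ⟨asIso (CohBC.bc0 φ g snd fst h.w (Coh.structureModule X')) ≪≫
      (Coh.push snd).mapIso (PicLoc.pullbackStructureIso fst)⟩
  · haveI : IsFinite (φ.fiberToSpecResidueField (g z)) :=
      inferInstanceAs (IsFinite (pullback.snd φ (X.fromSpecResidueField (g z))))
    rw [Flat55.DimSums.dim_eq_of_isFinite (φ.fiberToSpecResidueField (g z))]
    refine (Topology.IsInducing.subtypeVal.topologicalKrullDim_le).trans ?_
    show topologicalKrullDim (PrimeSpectrum (X.residueField (g z))) ≤ _
    rw [PrimeSpectrum.topologicalKrullDim_eq_ringKrullDim, ringKrullDim_eq_zero_of_field]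
    exact le_of_eq rfl

theorem mem_support_E {d : ℕ} (h : FibreCard φ (d + 1)) (y : X) : y ∈ CohB1.support (E φ) := by
  by_contra hy
  haveI : (E φ).IsQuasicoherent := (CurveBundle.Coherent.isCoh (isFinLocFree_E φ)).1
  haveI := (CurveBundle.Coherent.isCoh (isFinLocFree_E φ)).2
  let V : X.Opens := ⟨(CohB1.support (E φ))ᶜ, (Modules.Support.isClosed_support (E φ)).isOpen_compl⟩
  have h1 : (1 : Γ(X', φ ⁻¹ᵁ V)) = 0 :=
    Modules.Support.eq_zero_of_germ_eq_zero (M := E φ) (U := V) (1 : Γ(X', φ ⁻¹ᵁ V)) fun x hx hxs =>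
      absurd hxs hx
  obtain ⟨x, hx⟩ := Points.surjective h y
  have hxV : x ∈ φ ⁻¹ᵁ V := by show φ x ∈ V; rw [hx]; exact hy
  have := congrArg (X'.presheaf.germ (φ ⁻¹ᵁ V) x hxV).hom h1
  rw [map_one, map_zero] at this
  exact one_ne_zero this

end Geometry

variable (k : Type u) [Field k]

/-- `χ(φ_* O ⊗ G) - d χ(G)`. -/
noncomputable def D {X' X : Scheme.{u}} [X.Over (Spec (CommRingCat.of k))] (φ : X' ⟶ X) (d : ℕ)
    (G : X.Modules) : ℤ :=
  Curv2.euler k X (CohB1.tensorMod (E φ) G) - (d : ℤ) * Curv2.euler k X G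

section Local

variable {k} {X' X : Scheme.{u}} [X.Over (Spec (CommRingCat.of k))]
  [IsProper (X ↘ Spec (CommRingCat.of k))] (φ : X' ⟶ X) [IsFinite φ] [Etale φ] (d : ℕ)

/-- The projection formula. -/
theorem nonempty_projIso (M : X.Modules) (hM : FlatMod.IsFinLocFree M) {Z : Scheme.{u}} (g : Z ⟶ X) :
    Nonempty (CohB1.tensorMod M ((Coh.push g).obj (Coh.structureModule Z)) ≅
      (Coh.push g).obj ((TensorMod.Pullback.pb g).obj M)) :=
  ⟨(Modules.ProjFormula.projIso g (Modules.DualBasis.hasDBases_of_isFinLocFree hM)).app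
      (Coh.structureModule Z) ≪≫ (Coh.push g).mapIso (rightUnit _)⟩

theorem isAdd_D : IsAdd (D k φ d) := by
  haveI := Curves.GlobalSections.isNoetherian_of_proper k X
  refine ⟨fun {F G} e => ?_, fun {F} hF => ?_, fun {S} hS h₁ h₂ h₃ => ?_⟩
  · simp only [D, euler_congr (k := k) e, euler_congr (k := k) (tensorIso (Iso.refl (E φ)) e)]
  · have h0 : ∀ {M : X.Modules}, IsZero M → Curv2.euler k X M = 0 := fun {M} hM => by
      refine finsum_eq_zero_of_forall_eq_zero fun i => ?_
      haveI := PosLin.CohBound.subsingleton_HH_isZero (k := k) hM i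
      simp [Module.finrank_zero_of_subsingleton]
    have hdb := Modules.DualBasis.hasDBases_of_isFinLocFree (isFinLocFree_E φ)
    haveI : (Modules.DualAdj.tensorL (E φ)).IsRightAdjoint :=
      (Modules.DualAdj.adjunction hdb).isRightAdjoint
    have hz : IsZero (CohB1.tensorMod (E φ) F) := (Modules.DualAdj.tensorL (E φ)).map_isZero hF
    simp [D, h0 hF, h0 hz]
  · have hE' := isFinLocFree_E φ
    have hdb := Modules.DualBasis.hasDBases_of_isFinLocFree hE'
    haveI : PreservesLimitsOfSize.{0, 0} (Modules.DualAdj.tensorL (E φ)) :=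
      (Modules.DualAdj.adjunction hdb).rightAdjoint_preservesLimits
    haveI : PreservesFiniteLimits (Modules.DualAdj.tensorL (E φ)) :=
      PreservesLimitsOfSize0.preservesFiniteLimits _
    haveI : PreservesColimitsOfSize.{0, 0} (Modules.DualAdj.tensorL (E φ)) :=
      preservesColimitsOfSize_shrink _
    haveI : PreservesFiniteColimits (Modules.DualAdj.tensorL (E φ)) :=
      PreservesColimitsOfSize0.preservesFiniteColimits _
    have hEc := CurveBundle.Coherent.isCoh hE'
    have e1 := ParBun.Proper.euler_add (k := k) hS h₁ h₂ h₃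
    have e2 : Curv2.euler k X (CohB1.tensorMod (E φ) S.X₂) =
        Curv2.euler k X (CohB1.tensorMod (E φ) S.X₁) + Curv2.euler k X (CohB1.tensorMod (E φ) S.X₃) :=
      ParBun.Proper.euler_add (S := S.map (Modules.DualAdj.tensorL (E φ)))
        (hS.map_of_exact (Modules.DualAdj.tensorL (E φ))) (RefHull.Tensor.isCoh_tensorMod hEc h₁)
        (RefHull.Tensor.isCoh_tensorMod hEc h₂) (RefHull.Tensor.isCoh_tensorMod hEc h₃)
    simp only [D, e1, e2]
    ring

theorem D_structure [X'.Over (Spec (CommRingCat.of k))]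
    (hφ : φ ≫ (X ↘ Spec (CommRingCat.of k)) = X' ↘ Spec (CommRingCat.of k)) :
    D k φ d (Coh.structureModule X) =
      Curv2.euler k X' (Coh.structureModule X') - (d : ℤ) * Curv2.euler k X (Coh.structureModule X) := by
  haveI := Curves.GlobalSections.isNoetherian_of_proper k X
  haveI : IsLocallyNoetherian X' := LocallyOfFiniteType.isLocallyNoetherian φ
  haveI : (Coh.structureModule X').IsQuasicoherent := (Snapper.Twist.isCoh_structureModule X').1
  rw [D, euler_congr (k := k) (rightUnit (E φ)), euler_push φ hφ]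

/-- The value at a closure is the value on the integral subscheme. -/
theorem D_closure (y : X) {Z' : Scheme.{u}} {fst : Z' ⟶ X'}
    {snd : Z' ⟶ (IntMult.ptIdeal y).subscheme}
    (h : IsPullback fst snd φ (IntMult.ptIdeal y).subschemeι) :
    letI : (IntMult.ptIdeal y).subscheme.Over (Spec (CommRingCat.of k)) :=
      ⟨(IntMult.ptIdeal y).subschemeι ≫ (X ↘ Spec (CommRingCat.of k))⟩
    D k φ d (Cyc.closureStructureSheaf y) =
      D k snd d (Coh.structureModule (IntMult.ptIdeal y).subscheme) := by
  let ι := (IntMult.ptIdeal y).subschemeι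
  letI : (IntMult.ptIdeal y).subscheme.Over (Spec (CommRingCat.of k)) :=
    ⟨ι ≫ (X ↘ Spec (CommRingCat.of k))⟩
  haveI := Curves.GlobalSections.isNoetherian_of_proper k X
  haveI : IsLocallyNoetherian X' := LocallyOfFiniteType.isLocallyNoetherian φ
  haveI : IsLocallyNoetherian (IntMult.ptIdeal y).subscheme :=
    LocallyOfFiniteType.isLocallyNoetherian ι
  haveI : IsFinite snd := MorphismProperty.of_isPullback h ‹IsFinite φ›
  haveI : Etale snd := MorphismProperty.of_isPullback h ‹Etale φ›
  haveI : IsLocallyNoetherian Z' := LocallyOfFiniteType.isLocallyNoetherian snd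
  obtain ⟨e1⟩ := nonempty_projIso (E φ) (isFinLocFree_E φ) ι
  obtain ⟨e2⟩ := nonempty_bc φ h
  show D k φ d ((Coh.push ι).obj (Coh.structureModule _)) = _
  haveI : ((TensorMod.Pullback.pb ι).obj (E φ)).IsQuasicoherent :=
    (CurveBundle.Coherent.isCoh (TensorMod.LocFree.isFinLocFree_pullback ι (isFinLocFree_E φ))).1
  haveI : (Coh.structureModule (IntMult.ptIdeal y).subscheme).IsQuasicoherent :=
    (Snapper.Twist.isCoh_structureModule _).1
  rw [D, D, euler_congr (k := k) e1, euler_push ι rfl, euler_push ι rfl]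
  exact congrArg (· - _) (euler_congr (k := k) (e2 ≪≫ (rightUnit _).symm))

end Local

/-- One degree: all values vanish. -/
def Holds (d : ℕ) : Prop :=
  ∀ (X' X : Scheme.{u}) [X.Over (Spec (CommRingCat.of k))] [IsProper (X ↘ Spec (CommRingCat.of k))]
    (φ : X' ⟶ X) [IsFinite φ] [Etale φ], FibreCard φ d → ∀ G : X.Modules, Coh.IsCoh G → D k φ d G = 0

theorem holds_zero : Holds k 0 := by
  intro X' X _ _ φ _ _ h G hG
  haveI := Points.isEmpty h
  haveI := Curves.GlobalSections.isNoetherian_of_proper k X
  have hz : IsZero (E φ) := Modules.Support.support_eq_empty_iff.1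
    (Set.eq_empty_iff_forall_notMem.2 fun y hy => by
      haveI : Subsingleton ((E φ).presheaf.stalk y) := subsingleton_of_forall_eq 0 fun v => by
        obtain ⟨U, hU, s, rfl⟩ := TopCat.Presheaf.exists_germ_eq (E φ).presheaf v
        haveI : Subsingleton Γ(E φ, U) := by
          show Subsingleton Γ(X', φ ⁻¹ᵁ U)
          rw [show φ ⁻¹ᵁ U = ⊥ from Opens.ext (Set.eq_empty_of_isEmpty _)]
          infer_instance
        rw [Subsingleton.elim s 0, map_zero]
      exact Modules.Support.not_mem_support_iff.2 inferInstance hy)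
  haveI := (CurveBundle.Coherent.isCoh (isFinLocFree_E φ)).2
  haveI := hG.2
  have hz' : IsZero (CohB1.tensorMod (E φ) G) := by
    rw [← Modules.Support.support_eq_empty_iff, Modules.SupportOps.support_tensorMod,
      Modules.Support.support_eq_empty_iff.2 hz, Set.empty_inter]
  rw [D, show Curv2.euler k X (CohB1.tensorMod (E φ) G) = 0 from
    finsum_eq_zero_of_forall_eq_zero fun i => by
      haveI := PosLin.CohBound.subsingleton_HH_isZero (k := k) hz' i
      simp [Module.finrank_zero_of_subsingleton]]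
  simp

variable {k}

/-- The integral case, from the lower degree and the lower dimensions. -/
theorem integral_case {d n : ℕ} (hd : Holds k d) {Z' Z : Scheme.{u}} [Z.Over (Spec (CommRingCat.of k))]
    [IsProper (Z ↘ Spec (CommRingCat.of k))] [IsIntegral Z]
    (hdim : topologicalKrullDim Z = (n : WithBot ℕ∞)) (φ : Z' ⟶ Z) [IsFinite φ] [Etale φ]
    (hφ : FibreCard φ (d + 1)) (hvan : VanishBelow (D k φ (d + 1)) n) :
    D k φ (d + 1) (Coh.structureModule Z) = 0 := by
  classical
  haveI := Curves.GlobalSections.isNoetherian_of_proper k Z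
  letI : Z'.Over (Spec (CommRingCat.of k)) := ⟨φ ≫ (Z ↘ Spec (CommRingCat.of k))⟩
  haveI : IsProper (Z' ↘ Spec (CommRingCat.of k)) := inferInstanceAs (IsProper (φ ≫ _))
  haveI := Curves.GlobalSections.isNoetherian_of_proper k Z'
  let P := pullback φ φ
  let p₁ : P ⟶ Z' := pullback.fst φ φ
  let p₂ : P ⟶ Z' := pullback.snd φ φ
  letI : P.Over (Spec (CommRingCat.of k)) := ⟨p₂ ≫ (Z' ↘ Spec (CommRingCat.of k))⟩
  haveI : IsFinite p₂ := inferInstanceAs (IsFinite (pullback.snd φ φ))
  haveI : Etale p₂ := inferInstanceAs (Etale (pullback.snd φ φ))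
  haveI : IsProper (P ↘ Spec (CommRingCat.of k)) := inferInstanceAs (IsProper (p₂ ≫ _))
  haveI := Curves.GlobalSections.isNoetherian_of_proper k P
  let Δ : Z' ⟶ P := pullback.diagonal φ
  haveI : IsOpenImmersion Δ := inferInstanceAs (IsOpenImmersion (pullback.diagonal φ))
  haveI : IsClosedImmersion Δ := inferInstanceAs (IsClosedImmersion (pullback.diagonal φ))
  let U : P.Opens := ⟨(Set.range Δ)ᶜ, Δ.isClosedEmbedding.isClosed_range.isOpen_compl⟩
  haveI : IsClosedImmersion U.ι := IsClosedImmersion.of_isPreimmersion U.ι (by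
    rw [Scheme.Opens.range_ι]; exact Δ.isOpenEmbedding.isOpen_range.isClosed_compl)
  letI : (U : Scheme.{u}).Over (Spec (CommRingCat.of k)) := ⟨U.ι ≫ (P ↘ Spec (CommRingCat.of k))⟩
  let ψ : (U : Scheme.{u}) ⟶ Z' := U.ι ≫ p₂
  haveI : IsFinite ψ := inferInstanceAs (IsFinite (U.ι ≫ p₂))
  haveI : Etale ψ := inferInstanceAs (Etale (U.ι ≫ p₂))
  have hψ : FibreCard ψ d := by
    intro Ω _ _ s'
    obtain ⟨e⟩ := hφ Ω (s' ≫ φ)
    let x : Spec (CommRingCat.of Ω) := IsLocalRing.closedPoint Ω
    let base : Points.Pts φ (s' ≫ φ) := ⟨s', rfl⟩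
    have hne : ∀ u : Points.Pts ψ s',
        (⟨u.1 ≫ U.ι ≫ p₁, by
          rw [Category.assoc, Category.assoc, pullback.condition, ← Category.assoc U.ι,
            ← Category.assoc]
          exact congrArg (· ≫ φ) u.2⟩ : Points.Pts φ (s' ≫ φ)) ≠ base := fun u hu => by
      have h1 : u.1 ≫ U.ι ≫ p₁ = s' := congrArg Subtype.val hu
      have h2 : u.1 ≫ U.ι = s' ≫ Δ := pullback.hom_ext
        (by simp only [Category.assoc, Δ, pullback.diagonal_fst, Category.comp_id]; exact h1)
        (by simp only [Category.assoc, Δ, pullback.diagonal_snd, Category.comp_id]; exact u.2)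
      have h3 : U.ι (u.1 x) = Δ (s' x) := by
        rw [← Scheme.Hom.comp_apply, h2, Scheme.Hom.comp_apply]
      exact (u.1 x).2 ⟨s' x, h3.symm⟩
    have hlift : ∀ s : {s : Points.Pts φ (s' ≫ φ) // s ≠ base},
        Set.range (pullback.lift s.1.1 s' s.1.2 : Spec (CommRingCat.of Ω) ⟶ P) ⊆ Set.range U.ι := by
      rintro s _ ⟨w, rfl⟩
      rw [Scheme.Opens.range_ι]
      rintro ⟨q, hq⟩
      have hr : Set.range (pullback.lift s.1.1 s' s.1.2 : Spec (CommRingCat.of Ω) ⟶ P) ⊆ Set.range Δ := by
        rintro _ ⟨w', rfl⟩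
        exact ⟨q, hq.trans (congrArg _ (Subsingleton.elim (α := PrimeSpectrum Ω) w w'))⟩
      have h1 := IsOpenImmersion.lift_fac Δ _ hr
      set q' := IsOpenImmersion.lift Δ (pullback.lift s.1.1 s' s.1.2) hr
      have h2 : q' = s' := by
        have := congrArg (· ≫ p₂) h1
        simpa [Δ, p₂, pullback.diagonal_snd, pullback.lift_snd] using this
      refine s.2 (Subtype.ext ?_)
      have := congrArg (· ≫ p₁) h1
      simpa [Δ, p₁, pullback.diagonal_fst, pullback.lift_fst, h2, base] using this.symm
    let e' : Points.Pts ψ s' ≃ {s : Points.Pts φ (s' ≫ φ) // s ≠ base} :=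
      { toFun := fun u => ⟨_, hne u⟩
        invFun := fun s => ⟨IsOpenImmersion.lift U.ι _ (hlift s), by
          show _ ≫ U.ι ≫ p₂ = s'
          rw [← Category.assoc, IsOpenImmersion.lift_fac, pullback.lift_snd]⟩
        left_inv := fun u => Subtype.ext ((cancel_mono U.ι).1 (by
          rw [IsOpenImmersion.lift_fac]
          refine pullback.hom_ext ?_ ?_
          · exact (pullback.lift_fst _ _ _).trans (Category.assoc _ _ _).symm
          · exact (pullback.lift_snd _ _ _).trans (u.2.symm.trans (Category.assoc _ _ _).symm)))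
        right_inv := fun s => Subtype.ext (Subtype.ext (by
          show IsOpenImmersion.lift U.ι _ (hlift s) ≫ U.ι ≫ p₁ = _
          rw [← Category.assoc, IsOpenImmersion.lift_fac, pullback.lift_fst])) }
    exact ⟨e'.trans ((e.subtypeEquiv (q := fun i => i ≠ e base) fun s => by simp).trans
      (finSuccAboveEquiv (e base)).symm)⟩
  have hU : Curv2.euler k (U : Scheme.{u}) (Coh.structureModule (U : Scheme.{u})) =
      (d : ℤ) * Curv2.euler k Z' (Coh.structureModule Z') := by
    have h := hd _ _ ψ hψ (Coh.structureModule Z') (Snapper.Twist.isCoh_structureModule Z')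
    rw [D_structure (k := k) ψ d (by simp [ψ, Category.assoc]; rfl)] at h
    linarith
  have hsplit : Curv2.euler k P (Coh.structureModule P) =
      Curv2.euler k Z' (Coh.structureModule Z') +
        Curv2.euler k (U : Scheme.{u}) (Coh.structureModule (U : Scheme.{u})) :=
    Split.euler_clopen Δ U.ι (by
        show Δ ≫ p₂ ≫ _ = _
        rw [← Category.assoc]; simp [Δ, p₂, pullback.diagonal_snd]) rfl
      (disjoint_iff.2 (Opens.ext (by
        simp only [Opens.coe_inf, Scheme.Opens.opensRange_ι, Opens.coe_bot]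
        exact Set.inter_compl_self _)))
      (Opens.ext (by
        simp only [Opens.coe_sup, Scheme.Opens.opensRange_ι, Opens.coe_top]
        exact Set.union_compl_self _))
  have hE := isFinLocFree_E φ
  have hEc := CurveBundle.Coherent.isCoh hE
  have hEuler : Curv2.euler k Z (E φ) = Curv2.euler k Z' (Coh.structureModule Z') := by
    haveI : (Coh.structureModule Z').IsQuasicoherent := (Snapper.Twist.isCoh_structureModule Z').1
    exact euler_push φ rfl _
  have hDE : D k φ (d + 1) (E φ) = 0 := by
    obtain ⟨e1⟩ := nonempty_projIso (E φ) hE φ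
    obtain ⟨e2⟩ := nonempty_bc φ (IsPullback.of_hasPullback φ φ)
    haveI : ((TensorMod.Pullback.pb φ).obj (E φ)).IsQuasicoherent :=
      (CurveBundle.Coherent.isCoh (TensorMod.LocFree.isFinLocFree_pullback φ hE)).1
    haveI : (Coh.structureModule P).IsQuasicoherent := (Snapper.Twist.isCoh_structureModule P).1
    rw [D, hEuler, euler_congr (k := k) e1, euler_push φ rfl, euler_congr (k := k) e2,
      euler_push p₂ rfl, hsplit, hU]
    push_cast
    ring
  have hsum := IntTheory.Additive.eq_sum (isAdd_D (k := k) φ (d + 1)) hvan hEc (T := ⊤)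
    (Set.subset_univ _) ((Topology.IsInducing.subtypeVal.topologicalKrullDim_le).trans hdim.le)
  rw [hDE] at hsum
  set η := genericPoint Z
  have hηcl : closure ({η} : Set Z) = Set.univ := genericPoint_spec Z
  have htop : topPts ((⊤ : Closeds Z) : Set Z) n = {η} := by
    ext y
    refine ⟨fun hy => ?_, fun hy => ?_⟩
    · exact (IntTheory.Additive.maximal_of_topPts (T := ((⊤ : Closeds Z) : Set Z)) isClosed_univ
        ((Topology.IsInducing.subtypeVal.topologicalKrullDim_le).trans hdim.le) hy η trivial
        ((genericPoint_spec Z).specializes trivial)).symm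
    · rw [Set.mem_singleton_iff.1 hy]
      refine ⟨trivial, ?_⟩
      rw [hηcl, ← hdim]
      exact (Homeomorph.Set.univ Z).isHomeomorph.topologicalKrullDim_eq
  rw [Finset.sum_eq_single η (fun y hy hne => absurd (htop.subset ((Set.Finite.mem_toFinset _).1 hy)) hne)
    (fun h => absurd ((Set.Finite.mem_toFinset _).2 (htop.symm.subset (Set.mem_singleton η))) h)] at hsum
  have hlen : (Module.length (Z.presheaf.stalk η) ((E φ).presheaf.stalk η)).toNat ≠ 0 := by
    intro h0
    rcases ENat.toNat_eq_zero.1 h0 with h | h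
    · exact (not_subsingleton_iff_nontrivial.2 (not_subsingleton_iff_nontrivial.1
        (mem_support_E φ hφ η))) (Module.length_eq_zero_iff.1 h)
    · exact Cyc.SheafLen.length_ne_top hEc η (fun z hz _ =>
        (specializes_iff_mem_closure.1 hz |> fun _ => hz.antisymm
          ((genericPoint_spec Z).specializes trivial) |> Inseparable.eq)) h
  have hO : D k φ (d + 1) (Cyc.closureStructureSheaf η) = 0 :=
    (mul_eq_zero.1 hsum.symm).resolve_left (by exact_mod_cast hlen)
  let ι := (IntMult.ptIdeal η).subschemeι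
  haveI : IsIso ι := by
    haveI : Surjective ι := ⟨fun z => by
      have : z ∈ Set.range ι := by rw [Devissage.Closure.range_ptIdeal, hηcl]; trivial
      exact this⟩
    exact isIso_of_isClosedImmersion_of_surjective ι
  haveI : IsLocallyNoetherian (IntMult.ptIdeal η).subscheme := LocallyOfFiniteType.isLocallyNoetherian ι
  refine Eq.trans ((isAdd_D (k := k) φ (d + 1)).iso ?_) hO
  have hiso : IsIso (Split.res ι) := CohDelta.BC.Transpose.isIso_of_bijective_basis _
    (B := Set.univ) (Opens.isBasis_iff_nbhd.2 fun {O x} hx => ⟨O, trivial, hx, le_rfl⟩)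
    fun W _ => Split.bijective_res ι fun z _ => by
      have : z ∈ Set.range ι := by rw [Devissage.Closure.range_ptIdeal, hηcl]; trivial
      exact this
  exact @asIso _ _ _ _ (Split.res ι) hiso

/-- **The theorem.** -/
theorem holds : ∀ d : ℕ, Holds k d := by
  intro d
  induction d with
  | zero => exact holds_zero k
  | succ d ih =>
    suffices H : ∀ (n : ℕ) (X' X : Scheme.{u}) [X.Over (Spec (CommRingCat.of k))]
        [IsProper (X ↘ Spec (CommRingCat.of k))] (φ : X' ⟶ X) [IsFinite φ] [Etale φ],
        FibreCard φ (d + 1) → VanishBelow (D k φ (d + 1)) n by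
      intro X' X _ _ φ _ _ h G hG
      obtain ⟨N, hN⟩ := Snapper.DimBound.exists_dim_bound k X
      exact H (N + 1) X' X φ h G hG (((Topology.IsInducing.subtypeVal.topologicalKrullDim_le).trans
        hN).trans_lt (by exact_mod_cast N.lt_succ_self))
    intro n
    induction n with
    | zero =>
      intro X' X _ _ φ _ _ _ G hG hlt
      refine (isAdd_D φ (d + 1)).zero (Modules.Support.support_eq_empty_iff.1 ?_)
      by_contra hne
      obtain ⟨x, hx⟩ := Set.nonempty_iff_ne_empty.2 hne
      haveI : Nonempty (IrreducibleCloseds (CohB1.support G)) :=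
        ⟨⟨closure {⟨x, hx⟩}, isIrreducible_singleton.closure, isClosed_closure⟩⟩
      exact absurd hlt (not_lt.2 (by
        show ((0 : ℕ) : WithBot ℕ∞) ≤ _
        exact Order.krullDim_nonneg))
    | succ n ihn =>
      intro X' X _ _ φ _ _ h G hG hlt
      haveI := Curves.GlobalSections.isNoetherian_of_proper k X
      have hle : topologicalKrullDim (CohB1.support G) ≤ (n : WithBot ℕ∞) := by
        revert hlt
        generalize topologicalKrullDim (CohB1.support G) = a
        intro hlt
        induction a using WithBot.recBotCoe with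
        | bot => exact bot_le
        | coe b =>
          have hlt' : b < ((n + 1 : ℕ) : ℕ∞) := by exact_mod_cast hlt
          exact_mod_cast Order.le_of_lt_add_one (show b < (n : ℕ∞) + 1 by exact_mod_cast hlt')
      refine IntTheory.Additive.eq_zero (isAdd_D φ (d + 1)) (ihn X' X φ h) hG hle fun y hy => ?_
      let ι := (IntMult.ptIdeal y).subschemeι
      letI : (IntMult.ptIdeal y).subscheme.Over (Spec (CommRingCat.of k)) :=
        ⟨ι ≫ (X ↘ Spec (CommRingCat.of k))⟩
      haveI : IsProper ((IntMult.ptIdeal y).subscheme ↘ Spec (CommRingCat.of k)) :=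
        inferInstanceAs (IsProper (ι ≫ _))
      haveI := IntTheory.Curves.isIntegral_ptIdeal y
      rw [D_closure (k := k) φ (d + 1) y (IsPullback.of_hasPullback φ ι)]
      exact integral_case ih ((IntTheory.Curves.dim_ptIdeal y).trans hy.2) (pullback.snd φ ι)
        (Points.fibreCard_of_isPullback (IsPullback.of_hasPullback φ ι) h) (ihn _ _ _
          (Points.fibreCard_of_isPullback (IsPullback.of_hasPullback φ ι) h))

end Groth.Agent.Lib.EtaleChi90.Main
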