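import Groth.Agent.H34.Stein.DvrAlg
import Groth.Prelude.Def_Mor2
import Mathlib.AlgebraicGeometry.Morphisms.Etale
import Mathlib.AlgebraicGeometry.Morphisms.FlatRank
import Mathlib.RingTheory.Unramified.Field

/-!
# Geometric fibres of finite étale morphisms
-/

set_option autoImplicit false
set_option linter.style.haveILetI false
universe u

open CategoryTheory CategoryTheory.Limits AlgebraicGeometry

namespace Groth.Agent.Lib.EtaleChi90.Points

variable {X Y : Scheme.{u}}

/-- The lifts of a point. -/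
abbrev Pts (φ : X ⟶ Y) {Ω : Type u} [Field Ω] (y : Spec (CommRingCat.of Ω) ⟶ Y) : Type u :=
  {s : Spec (CommRingCat.of Ω) ⟶ X // s ≫ φ = y}

/-- Every geometric fibre has `d` points. -/
def FibreCard (φ : X ⟶ Y) (d : ℕ) : Prop :=
  ∀ (Ω : Type u) [Field Ω] [IsAlgClosed Ω] (y : Spec (CommRingCat.of Ω) ⟶ Y),
    Nonempty (Pts φ y ≃ Fin d)

/-- Over an algebraically closed field a finite étale scheme has as many points as its rank. -/
theorem nonempty_sections {P : Scheme.{u}} {Ω : Type u} [Field Ω] [IsAlgClosed Ω]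
    (q : P ⟶ Spec (CommRingCat.of Ω)) [IsFinite q] [Etale q] (x : Spec (CommRingCat.of Ω)) :
    Nonempty ({s : Spec (CommRingCat.of Ω) ⟶ P // s ≫ q = 𝟙 _} ≃ Fin (q.finrank x)) := by
  haveI : IsAffine P := isAffine_of_isAffineHom q
  let A := Γ(P, ⊤)
  let a : CommRingCat.of Ω ⟶ A := Spec.preimage (P.isoSpec.inv ≫ q)
  have ha : Spec.map a = P.isoSpec.inv ≫ q := Spec.map_preimage _
  letI : Algebra Ω A := a.hom.toAlgebra
  have ha' : CommRingCat.ofHom (algebraMap Ω A) = a := rfl
  haveI : IsFinite (Spec.map a) := by rw [ha]; infer_instance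
  haveI : Etale (Spec.map a) := by rw [ha]; infer_instance
  haveI : Module.Finite Ω A := RingHom.finite_algebraMap.1 ((IsFinite.SpecMap_iff a).1 inferInstance)
  haveI : Algebra.Etale Ω A :=
    RingHom.etale_algebraMap.1 ((HasRingHomProperty.Spec_iff (P := @Etale)).1 inferInstance)
  haveI : _root_.IsReduced A := Algebra.FormallyUnramified.isReduced_of_field Ω A
  have hrk : q.finrank x = Module.finrank Ω A := by
    have h1 : Scheme.Hom.finrank (Spec.map a) x = q.finrank x := by
      rw [ha, Scheme.Hom.finrank_comp_left_of_isIso]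
    have h2 : Scheme.Hom.finrank (Spec.map a) x = Module.rankAtStalk A x := by
      rw [← ha']
      exact Scheme.Hom.finrank_SpecMap_algebraMap Ω A x
    rw [← h1, h2, Module.rankAtStalk_eq_finrank_of_free]
    rfl
  haveI : Finite (A →ₐ[Ω] Ω) := inferInstance
  let e : {s : Spec (CommRingCat.of Ω) ⟶ P // s ≫ q = 𝟙 _} ≃ (A →ₐ[Ω] Ω) :=
    { toFun := fun s =>
        { (Spec.preimage (s.1 ≫ P.isoSpec.hom) : A ⟶ CommRingCat.of Ω).hom with
          commutes' := fun r => by
            have h : a ≫ Spec.preimage (s.1 ≫ P.isoSpec.hom) = 𝟙 _ := Spec.map_injective (by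
              rw [Spec.map_comp, Spec.map_preimage, ha, Category.assoc, Iso.hom_inv_id_assoc, s.2,
                Spec.map_id])
            exact congrArg (fun φ => φ.hom r) h }
      invFun := fun f => ⟨Spec.map (CommRingCat.ofHom f.toRingHom) ≫ P.isoSpec.inv, by
        rw [Category.assoc, ← ha, ← Spec.map_comp, ← Spec.map_id]
        congr 1
        ext r
        exact f.commutes r⟩
      left_inv := fun s => Subtype.ext (by
        show Spec.map (Spec.preimage (s.1 ≫ P.isoSpec.hom)) ≫ P.isoSpec.inv = s.1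
        rw [Spec.map_preimage, Category.assoc, Iso.hom_inv_id, Category.comp_id])
      right_inv := fun f => AlgHom.coe_ringHom_injective (by
        show (Spec.preimage ((Spec.map (CommRingCat.ofHom f.toRingHom) ≫ P.isoSpec.inv) ≫
          P.isoSpec.hom)).hom = f.toRingHom
        rw [Category.assoc, Iso.inv_hom_id, Category.comp_id, Spec.preimage_map]
        rfl) }
  rw [hrk]
  exact ⟨e.trans ((Finite.equivFin _).trans
    (finCongr (H34.Stein.DvrAlg.card_algHom_eq_finrank Ω A)))⟩

/-- Constant rank gives constant numbers of points. -/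
theorem fibreCard_of_finrank (φ : X ⟶ Y) [IsFinite φ] [Etale φ] {d : ℕ} (h : ∀ y, φ.finrank y = d) :
    FibreCard φ d := by
  intro Ω _ _ y
  let x : Spec (CommRingCat.of Ω) := IsLocalRing.closedPoint Ω
  obtain ⟨e⟩ := nonempty_sections (pullback.snd φ y) x
  have hx : (pullback.snd φ y).finrank x = d := (Scheme.Hom.finrank_pullback_snd φ y x).trans (h _)
  refine ⟨Equiv.trans ?_ (e.trans (finCongr hx))⟩
  exact
    { toFun := fun s => ⟨pullback.lift s.1 (𝟙 _) (by rw [s.2, Category.id_comp]), pullback.lift_snd _ _ _⟩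
      invFun := fun t => ⟨t.1 ≫ pullback.fst φ y, by
        rw [Category.assoc, pullback.condition, ← Category.assoc, t.2, Category.id_comp]⟩
      left_inv := fun s => Subtype.ext (pullback.lift_fst _ _ _)
      right_inv := fun t => Subtype.ext (pullback.hom_ext (pullback.lift_fst _ _ _)
        ((pullback.lift_snd _ _ _).trans t.2.symm)) }

/-- Base change. -/
theorem fibreCard_of_isPullback {P Z : Scheme.{u}} {fst : P ⟶ X} {snd : P ⟶ Z} {φ : X ⟶ Y}
    {g : Z ⟶ Y} (h : IsPullback fst snd φ g) {d : ℕ} (hφ : FibreCard φ d) : FibreCard snd d := by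
  intro Ω _ _ z
  obtain ⟨e⟩ := hφ Ω (z ≫ g)
  refine ⟨Equiv.trans ?_ e⟩
  exact
    { toFun := fun p => ⟨p.1 ≫ fst, by rw [Category.assoc, h.w, ← Category.assoc, p.2]⟩
      invFun := fun s => ⟨h.lift s.1 z s.2, h.lift_snd _ _ _⟩
      left_inv := fun p => Subtype.ext (h.hom_ext (h.lift_fst _ _ _)
        ((h.lift_snd _ _ _).trans p.2.symm))
      right_inv := fun s => Subtype.ext (h.lift_fst _ _ _) }

/-- Positive numbers of points: surjective. -/
theorem surjective {φ : X ⟶ Y} {d : ℕ} (h : FibreCard φ (d + 1)) (y : Y) : ∃ x, φ x = y := by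
  let Ω := AlgebraicClosure (Y.residueField y)
  let g : Spec (CommRingCat.of Ω) ⟶ Y :=
    Spec.map (CommRingCat.ofHom (algebraMap (Y.residueField y) Ω)) ≫ Y.fromSpecResidueField y
  obtain ⟨e⟩ := h Ω g
  let s := e.symm 0
  let x : Spec (CommRingCat.of Ω) := IsLocalRing.closedPoint Ω
  refine ⟨s.1 x, ?_⟩
  exact ((Scheme.Hom.comp_apply s.1 φ x).symm.trans (congrArg (fun f => f x) s.2)).trans
    ((Scheme.Hom.comp_apply _ _ x).trans (Scheme.fromSpecResidueField_apply y _))

/-- No points: empty. -/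
theorem isEmpty {φ : X ⟶ Y} (h : FibreCard φ 0) : IsEmpty X :=
  ⟨fun x => by
    let Ω := AlgebraicClosure (X.residueField x)
    let s : Spec (CommRingCat.of Ω) ⟶ X :=
      Spec.map (CommRingCat.ofHom (algebraMap (X.residueField x) Ω)) ≫ X.fromSpecResidueField x
    obtain ⟨e⟩ := h Ω (s ≫ φ)
    exact (e ⟨s, rfl⟩).elim0⟩

end Groth.Agent.Lib.EtaleChi90.Points
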